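import Groth.Agent.H15Site.Shriek.RpushAcyclic
import Groth.Agent.H16Derived.AcyclicLES
import Groth.Agent.H18Et.Cons.SectColim
import Groth.Agent.H16Derived.AcyclicSums

/-!
# Direct images of exact complexes of acyclic sheaves, under finite cohomological dimension

If every qcqs etale scheme over `X` has finite cohomological dimension, then the direct image along a qcqs
morphism of an exact complex, possibly unbounded, of sheaves acyclic on all qcqs etale schemes is exact.
-/

set_option autoImplicit false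
set_option linter.style.haveILetI false
set_option linter.unusedSectionVars false
set_option backward.isDefEq.respectTransparency false
set_option backward.isDefEq.respectTransparency.types false

universe u

open CategoryTheory CategoryTheory.Limits AlgebraicGeometry Opposite Abelian
open Groth.Agent.H18Et Groth.Agent.H1Lim Groth.Agent.H1DFun
open scoped Groth.Agent.H18Et Groth.Agent.H18Et.CohColim

namespace Groth.Agent.H15Site.RpushSums

attribute [local instance] Groth.Agent.H18Et.pull_preservesFiniteLimits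

variable {X S : Scheme.{u}}

/-- Acyclic on every qcqs etale scheme. -/
def IsHAcyclic (G : EtCoh.Ab X) : Prop :=
  ∀ W : X.Etale, CompactSpace ↥(W.left) → QuasiSeparatedSpace ↥(W.left) → ∀ q : ℕ,
    Subsingleton (Sheaf.H ((EtCoh.pull W.hom).obj G) (q + 1))

theorem isHAcyclic_of_injective (G : EtCoh.Ab X) [Injective G] : IsHAcyclic G := fun W _ _ q => by
  haveI : Etale W.hom := W.prop
  haveI := H18Et.EtaleRestrict.injective_pull W.hom G
  exact subsingleton_of_forall_eq 0 fun x => Ext.eq_zero_of_injective x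

theorem isHAcyclic_of_iso {G G' : EtCoh.Ab X} (e : G ≅ G') (h : IsHAcyclic G) : IsHAcyclic G' := fun W h₁ h₂ q => by
  haveI := h W h₁ h₂ q
  exact Function.Injective.subsingleton (H_map_injective ((EtCoh.pull W.hom).mapIso e.symm) (q + 1))

theorem isHAcyclic_biprod {G G' : EtCoh.Ab X} (h : IsHAcyclic G) (h' : IsHAcyclic G') : IsHAcyclic (G ⊞ G') :=
  fun W h₁ h₂ q => subsingleton_of_forall_eq 0 fun x => by
    let P := EtCoh.pull W.hom
    have e : Sheaf.H.map (P.map biprod.fst ≫ P.map biprod.inl + P.map biprod.snd ≫ P.map biprod.inr) (q + 1) x = x := by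
      rw [← Functor.map_comp, ← Functor.map_comp, ← Functor.map_add, biprod.total,
        CategoryTheory.Functor.map_id, Sheaf.H.map_id_apply]
    rw [← e, Sheaf.H.map_apply, Ext.mk₀_add, Ext.comp_add, ← Ext.mk₀_comp_mk₀, ← Ext.mk₀_comp_mk₀,
      ← Ext.comp_assoc_of_second_deg_zero, ← Ext.comp_assoc_of_second_deg_zero,
      @Subsingleton.elim _ (h W h₁ h₂ q) (Ext.comp x (Ext.mk₀ (P.map biprod.fst)) _) 0,
      @Subsingleton.elim _ (h' W h₁ h₂ q) (Ext.comp x (Ext.mk₀ (P.map biprod.snd)) _) 0,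
      Ext.zero_comp, Ext.zero_comp, add_zero]

/-- The cycles of an exact complex cut it into short exact sequences. -/
theorem shortExact_cycles (K : CochainComplex (EtCoh.Ab X) ℤ) (hK : ∀ i, K.ExactAt i) (j : ℤ) :
    (ShortComplex.mk (K.iCycles j) (K.toCycles j (j + 1)) (by
      rw [← cancel_mono (K.iCycles (j + 1)), Category.assoc, HomologicalComplex.toCycles_i,
        HomologicalComplex.iCycles_d, zero_comp])).ShortExact := by
  have : Epi (K.toCycles j (j + 1)) := by
    have h := (ShortComplex.exact_iff_epi_toCycles ((K.sc' j (j + 1) (j + 1 + 1)))).1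
      ((HomologicalComplex.exactAt_iff' K j (j + 1) (j + 1 + 1) (by simp) (by simp)).1 (hK _))
    have e : K.toCycles j (j + 1) =
        (K.sc' j (j + 1) (j + 1 + 1)).toCycles ≫
          (K.cyclesIsoSc' j (j + 1) (j + 1 + 1) (by simp) (by simp)).inv := by
      rw [← cancel_mono (K.iCycles (j + 1)), HomologicalComplex.toCycles_i]
      erw [Category.assoc, HomologicalComplex.cyclesIsoSc'_inv_iCycles, ShortComplex.toCycles_i]
      rfl
    rw [e]
    exact epi_comp' h inferInstance
  have : Mono (K.iCycles j) := inferInstance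
  refine ShortComplex.ShortExact.mk' ?_ this ‹_›
  refine ShortComplex.exact_of_f_is_kernel _ (KernelFork.IsLimit.ofι' _ _ (fun {W} k hk =>
    ⟨K.liftCycles k (j + 1) (by simp) ?_, K.liftCycles_i _ _ _ _⟩))
  rw [← K.toCycles_i j (j + 1), reassoc_of% (show k ≫ K.toCycles j (j + 1) = 0 from hk), zero_comp]

variable (hcd : ∀ U : X.Etale, CompactSpace ↥(U.left) → QuasiSeparatedSpace ↥(U.left) →
  ∃ d : ℕ, ∀ (F : EtCoh.Ab U.left) (q : ℕ), d < q → Subsingleton (EtCoh.H U.left F q))

include hcd in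
theorem subsingleton_H_cycles (K : CochainComplex (EtCoh.Ab X) ℤ) (hK : ∀ i, K.ExactAt i)
    (hX : ∀ i, IsHAcyclic (K.X i)) (W : X.Etale) (h₁ : CompactSpace ↥(W.left))
    (h₂ : QuasiSeparatedSpace ↥(W.left)) (j : ℤ) (q : ℕ) :
    Subsingleton (Sheaf.H ((EtCoh.pull W.hom).obj (K.cycles j)) (q + 1)) := by
  obtain ⟨d, hd⟩ := hcd W h₁ h₂
  suffices h : ∀ (m q : ℕ) (j : ℤ), d < q + 1 + m →
      Subsingleton (Sheaf.H ((EtCoh.pull W.hom).obj (K.cycles j)) (q + 1)) from h (d + 1) q j (by omega)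
  intro m
  induction m with
  | zero => exact fun q j h => hd _ _ (by omega)
  | succ m ih =>
    intro q j h
    obtain ⟨i, rfl⟩ : ∃ i, j = i + 1 := ⟨j - 1, by omega⟩
    have hS := (shortExact_cycles K hK i).map_of_exact (EtCoh.pull W.hom)
    refine subsingleton_of_forall_eq 0 fun y => ?_
    obtain ⟨x, hx⟩ := Ext.covariant_sequence_exact₃ _ hS y rfl (@Subsingleton.elim _ (ih (q + 1) i (by omega)) _ _)
    rw [← hx, @Subsingleton.elim _ (hX i W h₁ h₂ q) x 0, Ext.zero_comp]

include hcd in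
theorem isZero_Rpush_one_cycles (f : X ⟶ S) [QuasiCompact f] [QuasiSeparated f]
    (K : CochainComplex (EtCoh.Ab X) ℤ) (hK : ∀ i, K.ExactAt i) (hX : ∀ i, IsHAcyclic (K.X i)) (j : ℤ) :
    IsZero ((EtCoh.Rpush f 1).obj (K.cycles j)) := by
  refine H1DFun.isZero_of_stalks _ fun Ω _ _ ξ => subsingleton_of_forall_eq 0 fun y => ?_
  obtain ⟨U, z, x, rfl⟩ := exists_toSect_germ f (K.cycles j) 1 ξ y
  obtain ⟨P, hP, i, z', hz'⟩ := H18Et.Cons.exists_affine_nbhd z
  haveI := hP
  have hx : r0 f (K.cycles j) 1 i x = 0 :=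
    @Subsingleton.elim _ (subsingleton_H_cycles hcd K hK hX ((EtCoh.bc f).obj P) (H18Et.Coh.qcqs_bc f P).1
      (H18Et.Coh.qcqs_bc f P).2 j 0) _ _
  rw [← hz', ← H18Et.ConstSheaf.germ_map ξ _ i z']
  refine (congrArg _ ?_).trans (map_zero _)
  exact (toSect_map f (K.cycles j) 1 i x).trans ((congrArg _ hx).trans (map_zero _))

include hcd in
/-- Direct images of exact complexes of acyclic sheaves are exact. -/
theorem acyclic_map (f : X ⟶ S) [QuasiCompact f] [QuasiSeparated f]
    (K : CochainComplex (EtCoh.Ab X) ℤ) (hK : ∀ i, K.ExactAt i) (hX : ∀ i, IsHAcyclic (K.X i)) (i : ℤ) :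
    (((EtCoh.push f).mapHomologicalComplex (ComplexShape.up ℤ)).obj K).ExactAt i := by
  haveI : (EtCoh.push f).IsRightAdjoint := ⟨_, ⟨EtCoh.pullPushAdj f⟩⟩
  let F := EtCoh.push f
  obtain ⟨b, rfl⟩ : ∃ b, i = b + 1 := ⟨i - 1, by omega⟩
  have hepi : Epi (F.map (K.toCycles b (b + 1))) :=
    H16Derived.AcyclicLES.epi_map_g F (shortExact_cycles K hK b) (isZero_Rpush_one_cycles hcd f K hK hX b)
  let m : ℤ := b + 1
  let S₂ := ShortComplex.mk (F.map (K.d b m)) (F.map (K.d m (m + 1)))
    (by rw [← F.map_comp, K.d_comp_d, F.map_zero])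
  let S₁ := ShortComplex.mk (F.map (K.iCycles m)) (F.map (K.d m (m + 1)))
    (by rw [← F.map_comp, K.iCycles_d, F.map_zero])
  have h1 : S₁.Exact :=
    ShortComplex.exact_of_f_is_kernel _ (KernelFork.mapIsLimit _ (K.cyclesIsKernel m (m + 1) (by simp)) F)
  let φ : S₂ ⟶ S₁ :=
    { τ₁ := F.map (K.toCycles b m), τ₂ := 𝟙 _, τ₃ := 𝟙 _
      comm₁₂ := by simp [S₂, S₁, ← F.map_comp] }
  haveI : Epi φ.τ₁ := hepi
  haveI : IsIso φ.τ₂ := inferInstanceAs (IsIso (𝟙 _))
  haveI : Mono φ.τ₃ := inferInstanceAs (Mono (𝟙 _))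
  rw [HomologicalComplex.exactAt_iff' _ b m (m + 1) (by simp [m]) (by simp)]
  exact (ShortComplex.exact_iff_of_epi_of_isIso_of_mono φ).2 h1

end Groth.Agent.H15Site.RpushSums
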