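import Groth.Agent.H15Site.RpushSums.PushColim
import Groth.Agent.H15Site.RshriekInd.Sums

/-!
# `Rf_*` preserves direct sums under finite cohomological dimension
-/

set_option autoImplicit false
set_option linter.style.haveILetI false
set_option linter.unusedSectionVars false
set_option backward.isDefEq.respectTransparency false
set_option backward.isDefEq.respectTransparency.types false

universe u

open CategoryTheory CategoryTheory.Limits AlgebraicGeometry Opposite Abelian
open Groth.Agent.H16Derived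
open scoped Groth.Agent.H18Et Groth.Agent.H18Et.CohColim

namespace Groth.Agent.H15Site.RpushSums

attribute [local instance] HasDerivedCategory.standard Groth.Agent.H18Et.pull_preservesFiniteLimits

variable {X S : Scheme.{u}} (f : X ⟶ S) [QuasiCompact f] [QuasiSeparated f]

theorem preservesCoproducts_push (ι : Type (u + 1)) : PreservesColimitsOfShape (Discrete ι) (EtCoh.push f) := by
  haveI : PreservesFilteredColimitsOfSize.{u + 1, u + 1} (EtCoh.push f) :=
    ⟨fun J _ _ => preservesColimitsOfShape_push f⟩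
  haveI : (EtCoh.push f).IsRightAdjoint := ⟨_, ⟨EtCoh.pullPushAdj f⟩⟩
  exact AcyclicSums.preservesCoproducts_of_filtered (EtCoh.push f) ι

theorem preservesCoproducts_HF (W : Scheme.{u}) [CompactSpace ↥W] [QuasiSeparatedSpace ↥W] (n : ℕ)
    (ι : Type (u + 1)) : PreservesColimitsOfShape (Discrete ι) (EtCoh.HF W n) := by
  haveI : PreservesFilteredColimitsOfSize.{u + 1, u + 1} (EtCoh.HF W n) :=
    ⟨fun J _ _ => H18Et.CohColim.preservesColimitsOfShape_HF n⟩
  exact AcyclicSums.preservesCoproducts_of_filtered (EtCoh.HF W n) ι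

theorem isHAcyclic_sigma {ι : Type (u + 1)} (G : ι → EtCoh.Ab X) (hG : ∀ i, IsHAcyclic (G i)) :
    IsHAcyclic (∐ G) := fun W h₁ h₂ q => by
  haveI := h₁
  haveI := h₂
  haveI := preservesCoproducts_HF W.left (q + 1) ι
  haveI : (EtCoh.pull W.hom).IsLeftAdjoint := ⟨_, ⟨EtCoh.pullPushAdj _⟩⟩
  let Φ := EtCoh.pull W.hom ⋙ EtCoh.HF W.left (q + 1)
  have hz : IsZero (Φ.obj (∐ G)) := by
    rw [IsZero.iff_id_eq_zero]
    refine (isColimitOfPreserves Φ (coproductIsCoproduct G)).hom_ext fun ⟨i⟩ => ?_
    refine IsZero.eq_of_src ?_ _ _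
    haveI := hG i W h₁ h₂ q
    exact @AddCommGrpCat.isZero_of_subsingleton _ this
  exact AddCommGrpCat.subsingleton_of_isZero hz

variable (hcd : ∀ U : X.Etale, CompactSpace ↥(U.left) → QuasiSeparatedSpace ↥(U.left) →
  ∃ d : ℕ, ∀ (F : EtCoh.Ab U.left) (q : ℕ), d < q → Subsingleton (EtCoh.H U.left F q))

include hcd in
/-- Complexes of acyclic sheaves compute `Rf_*`. -/
theorem isIso_unit [DCoh.HasRpushEt X f] (M : CochainComplex (EtCoh.Ab X) ℤ) (hM : ∀ i, IsHAcyclic (M.X i)) :
    IsIso (((DCoh.pushEtKh X f).totalRightDerivedUnit DerivedCategory.Qh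
      (HomotopyCategory.quasiIso (EtCoh.Ab X) (ComplexShape.up ℤ))).app ((HomotopyCategory.quotient _ _).obj M)) := by
  let W₂ := HomotopyCategory.quasiIso (EtCoh.Ab X) (ComplexShape.up ℤ)
  let R := DCoh.RpushEt X f
  let β := (DCoh.pushEtKh X f).totalRightDerivedUnit DerivedCategory.Qh W₂
  haveI : (DCoh.pushEtKh X f).HasPointwiseRightDerivedFunctor W₂ :=
    RDerived.hasPointwiseRightDerivedFunctor_of_resolutions DerivedCategory.Qh _ _ fun M => by
      obtain ⟨I, hI, s, hs⟩ := FlatAdjD.exists_local M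
      exact ⟨_, s, hs, fun K => CochainComplex.IsKInjective.Qh_map_bijective K I⟩
  obtain ⟨N, j, hN⟩ := KInjRes.exists_resolution_functor (A := EtCoh.Ab X)
  let I := N.obj M
  let i : M ⟶ I := j.app M
  obtain ⟨-, hi, hKI, hinj⟩ := hN M
  haveI := hi
  haveI := hKI
  haveI : (EtCoh.push f).IsRightAdjoint := ⟨_, ⟨EtCoh.pullPushAdj f⟩⟩
  haveI : QuasiIso (((EtCoh.push f).mapHomologicalComplex (ComplexShape.up ℤ)).map i) := by
    rw [AcyclicLES.quasiIso_iff_acyclic_mappingCone]
    intro k
    refine HomologicalComplex.ExactAt.of_iso ?_ (CochainComplex.mappingCone.mapHomologicalComplexIso i (EtCoh.push f))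
    refine acyclic_map hcd f (CochainComplex.mappingCone i)
      ((AcyclicLES.quasiIso_iff_acyclic_mappingCone i).1 ‹_›) (fun p => ?_) k
    haveI := hinj p
    exact isHAcyclic_of_iso (HomologicalComplex.homotopyCofiber.XIsoBiprod i p (p + 1) rfl).symm
      (isHAcyclic_biprod (hM (p + 1)) (isHAcyclic_of_injective (I.X p)))
  haveI hI : IsIso (β.app ((HomotopyCategory.quotient _ _).obj I)) :=
    RDerived.isIso_unit_app_of_bijective DerivedCategory.Qh W₂ _ _ β _
      fun K => CochainComplex.IsKInjective.Qh_map_bijective K I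
  haveI h1 : IsIso (R.map (DerivedCategory.Qh.map ((HomotopyCategory.quotient _ _).map i))) := by
    haveI : IsIso (DerivedCategory.Qh.map ((HomotopyCategory.quotient _ _).map i)) :=
      (NatIso.isIso_map_iff (DerivedCategory.quotientCompQhIso _) i).2
        ((DerivedCategory.isIso_Q_map_iff_quasiIso _ i).2 inferInstance)
    infer_instance
  haveI h2 : IsIso ((DCoh.pushEtKh X f).map ((HomotopyCategory.quotient _ _).map i)) :=
    (NatIso.isIso_map_iff (DerivedCategory.quotientCompQhIso _) _).2
      ((DerivedCategory.isIso_Q_map_iff_quasiIso _ (((EtCoh.push f).mapHomologicalComplex (ComplexShape.up ℤ)).map i)).2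
        inferInstance)
  have e := β.naturality ((HomotopyCategory.quotient _ _).map i)
  haveI : IsIso ((DCoh.pushEtKh X f).map ((HomotopyCategory.quotient _ _).map i) ≫
      β.app ((HomotopyCategory.quotient _ _).obj I)) := inferInstance
  rw [e] at this
  exact @IsIso.of_isIso_comp_right _ _ _ _ _ _ (R.map (DerivedCategory.Qh.map ((HomotopyCategory.quotient _ _).map i))) h1 this

include hcd in
/-- **`Rf_*` preserves direct sums.** -/
theorem preservesColimit_Rpush [DCoh.HasRpushEt X f] {ι : Type (u + 1)} (E : ι → DCoh.DEt X) :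
    PreservesColimit (Discrete.functor E) (DCoh.RpushEt X f) := by
  obtain ⟨N, j, hN⟩ := KInjRes.exists_resolution_functor (A := EtCoh.Ab X)
  let M : ι → CochainComplex (EtCoh.Ab X) ℤ := fun i => N.obj (DerivedCategory.Q.objPreimage (E i))
  have eM : ∀ i, Nonempty (DerivedCategory.Q.obj (M i) ≅ E i) := fun i => by
    obtain ⟨-, hq, -, -⟩ := hN (DerivedCategory.Q.objPreimage (E i))
    haveI := (DerivedCategory.isIso_Q_map_iff_quasiIso _ (j.app (DerivedCategory.Q.objPreimage (E i)))).2 hq
    exact ⟨(asIso (DerivedCategory.Q.map (j.app (DerivedCategory.Q.objPreimage (E i))))).symm ≪≫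
      DerivedCategory.Q.objObjPreimageIso (E i)⟩
  have hM : ∀ i p, IsHAcyclic ((M i).X p) := fun i p => by
    haveI := (hN (DerivedCategory.Q.objPreimage (E i))).2.2.2 p
    exact isHAcyclic_of_injective _
  haveI : (EtCoh.push f).IsRightAdjoint := ⟨_, ⟨EtCoh.pullPushAdj f⟩⟩
  haveI := preservesCoproducts_push f ι
  haveI := RshriekInd.preservesColimit_mapHC (EtCoh.push f) (Discrete.functor M)
  let LA := HomotopyCategory.quotient (EtCoh.Ab X) (ComplexShape.up ℤ) ⋙ DerivedCategory.Qh
  let LB := HomotopyCategory.quotient (EtCoh.Ab S) (ComplexShape.up ℤ) ⋙ DerivedCategory.Qh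
  let MF := (EtCoh.push f).mapHomologicalComplex (ComplexShape.up ℤ)
  let α := (DCoh.pushEtKh X f).totalRightDerivedUnit DerivedCategory.Qh
    (HomotopyCategory.quasiIso (EtCoh.Ab X) (ComplexShape.up ℤ))
  let β : MF ⋙ LB ⟶ LA ⋙ DCoh.RpushEt X f :=
    { app := fun K => α.app ((HomotopyCategory.quotient _ _).obj K)
      naturality := fun K K' φ => α.naturality ((HomotopyCategory.quotient _ _).map φ) }
  haveI : PreservesColimitsOfShape (Discrete ι) LA :=
    haveI := QCoprod.preservesColimitsOfShape_Q (A := EtCoh.Ab X) ι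
    preservesColimitsOfShape_of_natIso (DerivedCategory.quotientCompQhIso (EtCoh.Ab X)).symm
  haveI : PreservesColimitsOfShape (Discrete ι) LB :=
    haveI := QCoprod.preservesColimitsOfShape_Q (A := EtCoh.Ab S) ι
    preservesColimitsOfShape_of_natIso (DerivedCategory.quotientCompQhIso (EtCoh.Ab S)).symm
  haveI : PreservesColimit (Discrete.functor M) (MF ⋙ LB) := inferInstance
  have hs : ∀ p, IsHAcyclic ((∐ M).X p) := fun p =>
    isHAcyclic_of_iso (PreservesCoproduct.iso (HomologicalComplex.eval (EtCoh.Ab X) (ComplexShape.up ℤ) p) M).symm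
      (isHAcyclic_sigma (fun i => (M i).X p) fun i => hM i p)
  haveI : PreservesColimit (Discrete.functor M ⋙ LA) (DCoh.RpushEt X f) :=
    RshriekInd.preservesColimit_comp_of_app_iso LA (DCoh.RpushEt X f) (MF ⋙ LB) β (Discrete.functor M)
      (Cofan.mk _ (Sigma.ι M)) (coproductIsCoproduct M) (fun i => isIso_unit f hcd (M i.as) (hM i.as))
      (isIso_unit f hcd (∐ M) hs)
  exact preservesColimit_of_iso_diagram (DCoh.RpushEt X f)
    (Discrete.natIso fun i => (DerivedCategory.quotientCompQhIso _).app (M i.as) ≪≫ (eM i.as).some :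
      Discrete.functor M ⋙ LA ≅ Discrete.functor E)

end Groth.Agent.H15Site.RpushSums
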