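import Groth.Agent.H15Site.RpushSums.Exact

/-!
# Direct images along qcqs morphisms commute with filtered colimits
-/

set_option autoImplicit false
set_option linter.style.haveILetI false
set_option linter.unusedSectionVars false
set_option backward.isDefEq.respectTransparency false
set_option backward.isDefEq.respectTransparency.types false

universe w u

open CategoryTheory CategoryTheory.Limits AlgebraicGeometry Opposite
open Groth.Agent.H18Et Groth.Agent.H18Et.Cons
open scoped Groth.Agent.H18Et Groth.Agent.H18Et.CohColim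

namespace Groth.Agent.H15Site.RpushSums

variable {X S : Scheme.{u}} (f : X ⟶ S) [QuasiCompact f] [QuasiSeparated f] {J : Type w} [SmallCategory J]
  [IsFiltered J] [PreservesColimitsOfShape J (CategoryTheory.forget AddCommGrpCat.{u + 1})]
  [HasColimitsOfShape J (EtCoh.Ab S)]

set_option synthInstance.maxHeartbeats 400000 in
set_option maxHeartbeats 800000 in
theorem preservesColimitsOfShape_push : PreservesColimitsOfShape J (EtCoh.push f) := by
  constructor
  intro D
  haveI : HasColimit (D ⋙ EtCoh.push f) := ‹HasColimitsOfShape J (EtCoh.Ab S)›.has_colimit _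
  refine ⟨fun {c} hc => ⟨?_⟩⟩
  let d := colimit.cocone (D ⋙ EtCoh.push f)
  let φ : d.pt ⟶ (EtCoh.push f).obj c.pt := colimit.desc _ ((EtCoh.push f).mapCocone c)
  have hφ : ∀ j, colimit.ι (D ⋙ EtCoh.push f) j ≫ φ = (EtCoh.push f).map (c.ι.app j) := fun j => colimit.ι_desc _ _
  suffices IsIso φ from @IsColimit.ofPointIso _ _ _ _ _ _ ((EtCoh.push f).mapCocone c) (colimit.isColimit _) ‹IsIso φ›
  refine H18Et.isIso_of_stalk _ fun x => ⟨_, _, SeparableClosure.isSepClosed _, geomPt x, geomPt_base x, ?_, ?_⟩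
  · refine (injective_iff_map_eq_zero _).2 fun y hy => ?_
    obtain ⟨j, p, hp⟩ := Concrete.isColimit_exists_rep _ (isColimitStalk (colimit.isColimit (D ⋙ EtCoh.push f)) _) y
    obtain ⟨U, z, t, rfl⟩ := germ_surjective _ ((EtCoh.push f).obj (D.obj j)) p
    subst hp
    have h0 : germ (geomPt x) ((EtCoh.push f).obj c.pt) U z (((EtCoh.push f).map (c.ι.app j)).hom.app (op U) t) =
        germ (geomPt x) ((EtCoh.push f).obj c.pt) U z 0 := by
      refine ((germ_naturality _ ((EtCoh.push f).map (c.ι.app j)) U z t).symm.trans ?_).trans (map_zero _).symm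
      refine Eq.trans ?_ hy
      rw [← hφ, Functor.map_comp, ConcreteCategory.comp_apply]
      rfl
    obtain ⟨W, a, w, hw, he⟩ := (germ_eq_iff _ _ U z _ _).1 h0
    obtain ⟨P, hP, i, z', hz'⟩ := H18Et.Cons.exists_affine_nbhd w
    haveI := hP
    haveI : CompactSpace ↥((EtCoh.bc f).obj P).left := (H18Et.Coh.qcqs_bc f P).1
    let t' : EtCoh.sect ((EtCoh.push f).obj (D.obj j)) P := ((EtCoh.push f).obj (D.obj j)).obj.map (i ≫ a).op t
    have ht' : (c.ι.app j).hom.app (op ((EtCoh.bc f).obj P)) t' = 0 := by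
      refine (NatTrans.naturality_apply ((EtCoh.push f).map (c.ι.app j)).hom (i ≫ a).op t).trans ?_
      rw [op_comp, Functor.map_comp, ConcreteCategory.comp_apply]
      exact (congrArg _ he).trans ((congrArg _ (map_zero _)).trans (map_zero _))
    obtain ⟨k, g, hg⟩ := sect_colim_inj hc (U := (EtCoh.bc f).obj P) t' ht'
    have hz : germ (geomPt x) ((EtCoh.push f).obj (D.obj j)) U z t =
        germ (geomPt x) ((EtCoh.push f).obj (D.obj j)) P z' t' := by
      refine Eq.trans ?_ ((Scheme.pointSmallEtale _).toPresheafFiber_w_apply (i ≫ a) z'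
        ((EtCoh.push f).obj (D.obj j)).obj t).symm
      rw [Functor.map_comp_apply, hz', hw]
      rfl
    show (EtCoh.stalk _).map (colimit.ι (D ⋙ EtCoh.push f) j) (germ (geomPt x) ((EtCoh.push f).obj (D.obj j)) U z t) = 0
    rw [hz, ← colimit.w (D ⋙ EtCoh.push f) g, Functor.map_comp, ConcreteCategory.comp_apply]
    refine (congrArg _ ((germ_naturality _ ((EtCoh.push f).map (D.map g)) P z' t').trans
      ((congrArg _ ?_).trans (map_zero _)))).trans (map_zero _)
    exact hg
  · intro y
    obtain ⟨U, z, s, rfl⟩ := germ_surjective _ ((EtCoh.push f).obj c.pt) y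
    obtain ⟨P, hP, i, z', hz'⟩ := H18Et.Cons.exists_affine_nbhd z
    haveI := hP
    haveI : CompactSpace ↥((EtCoh.bc f).obj P).left := (H18Et.Coh.qcqs_bc f P).1
    haveI : QuasiSeparatedSpace ↥((EtCoh.bc f).obj P).left := (H18Et.Coh.qcqs_bc f P).2
    obtain ⟨j, t, ht⟩ := sect_colim_surj hc (U := (EtCoh.bc f).obj P) (((EtCoh.push f).obj c.pt).obj.map i.op s)
    refine ⟨(EtCoh.stalk _).map (colimit.ι (D ⋙ EtCoh.push f) j) (germ (geomPt x) ((EtCoh.push f).obj (D.obj j)) P z' t), ?_⟩
    refine (ConcreteCategory.congr_hom ((((EtCoh.stalk (geomPt x)).map_comp _ φ).symm.trans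
      (congrArg _ (hφ j)))) _).trans ?_
    refine (germ_naturality _ ((EtCoh.push f).map (c.ι.app j)) P z' t).trans ?_
    refine (congrArg _ ht).trans ?_
    exact ((Scheme.pointSmallEtale _).toPresheafFiber_w_apply i z' ((EtCoh.push f).obj c.pt).obj s).trans
      (congrArg (fun y => germ _ ((EtCoh.push f).obj c.pt) U y s) hz')

end Groth.Agent.H15Site.RpushSums
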